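import Cfsg.Agent.SpinWreath.Local
import Cfsg.Agent.NotMax.TensorFrame
import Cfsg.Agent.AutPSp.Field

/-!
The stabiliser of a tensor power of symplectic spaces of dimension at most four in characteristic two is
not maximal in the orthogonal group: it normalises the space `W`.
-/

set_option autoImplicit false
set_option linter.unusedSectionVars false
set_option linter.deprecated false

namespace Cfsg.Agent.SpinWreath

open Matrix

variable {F : Type*} [Field F]

section Wreath

variable {μ κ : Type} [Fintype μ] [DecidableEq μ] [Fintype κ] [DecidableEq κ]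

theorem one_gl_apply {κ : Type} [Fintype κ] [DecidableEq κ] (x y : κ) :
    ((1 : GL κ F) : Matrix κ κ F) x y = if x = y then 1 else 0 := Matrix.one_apply

/-- elements of the standard tensor-wreath subgroup -/
theorem exists_form [Finite F] {m t : ℕ} {g : GL (Fin t → Fin m) F}
    (hg : g ∈ Cfsg.Geo.tensorWreathStandard m t F) :
    ∃ (A : Fin t → GL (Fin m) F) (π : Equiv.Perm (Fin t)),
      (g : Matrix (Fin t → Fin m) (Fin t → Fin m) F) = form (fun i => (A i : Matrix (Fin m) (Fin m) F)) π := by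
  rw [Cfsg.Geo.tensorWreathStandard, ← Subgroup.mem_toSubmonoid, Subgroup.closure_toSubmonoid_of_finite] at hg
  induction hg using Submonoid.closure_induction with
  | mem g hg =>
    rcases hg with ⟨gs, h⟩ | ⟨σ, h⟩
    · exact ⟨gs, 1, Matrix.ext fun x y => h x y⟩
    · refine ⟨fun _ => 1, σ.symm, Matrix.ext fun x y => ?_⟩
      rw [h, form_apply]
      split_ifs with e
      · exact (Finset.prod_eq_one fun i _ => (one_gl_apply _ _).trans (if_pos (by subst e; simp))).symm
      · obtain ⟨j, hj⟩ := Function.ne_iff.1 e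
        refine (Finset.prod_eq_zero (Finset.mem_univ (σ j)) ?_).symm
        refine (one_gl_apply _ _).trans (if_neg ?_)
        rw [Equiv.symm_apply_apply]
        exact fun e' => hj e'.symm
  | one => exact ⟨fun _ => 1, 1, form_one.symm⟩
  | mul g h _ _ hg hh =>
    obtain ⟨A, π, hA⟩ := hg
    obtain ⟨B, τ, hB⟩ := hh
    exact ⟨fun i => A i * B (π i), τ * π, by rw [Units.val_mul, hA, hB, form_mul]; rfl⟩

theorem pure_reindex {κ' : Type} [Fintype κ'] [DecidableEq κ'] (η : κ ≃ κ') (A : μ → Matrix κ' κ' F)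
    (π : Equiv.Perm μ) :
    Matrix.reindex ((Equiv.refl μ).arrowCongr η).symm ((Equiv.refl μ).arrowCongr η).symm (form A π) =
      form (fun i => Matrix.reindex η.symm η.symm (A i)) π := by
  ext x y
  rfl

/-- a pure tensor equal to a tensor power is proportional to it in each factor -/
theorem pure_eq_const {C : μ → Matrix κ κ F} {G : Matrix κ κ F} {a b : κ} (hG : G a b ≠ 0)
    (h : pure C = pure fun _ => G) (i : μ) : ∃ l : F, C i = l • G := by
  let r : F := ∏ j ∈ Finset.univ.erase i, C j a b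
  have key : ∀ a' b' : κ, C i a' b' * r = G a' b' * ∏ j ∈ Finset.univ.erase i, G a b := fun a' b' => by
    have := congrFun (congrFun h (Function.update (fun _ => a) i a')) (Function.update (fun _ => b) i b')
    rw [pure_apply, pure_apply, ← Finset.mul_prod_erase _ _ (Finset.mem_univ i),
      ← Finset.mul_prod_erase _ _ (Finset.mem_univ i)] at this
    rw [Function.update_self, Function.update_self] at this
    refine Eq.trans ?_ (this.trans ?_)
    · exact congrArg _ (Finset.prod_congr rfl fun j hj => by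
        rw [Function.update_of_ne (Finset.ne_of_mem_erase hj), Function.update_of_ne (Finset.ne_of_mem_erase hj)])
    · exact congrArg _ (Finset.prod_congr rfl fun j hj => by
        rw [Function.update_of_ne (Finset.ne_of_mem_erase hj), Function.update_of_ne (Finset.ne_of_mem_erase hj)])
  have hne : ∏ j ∈ Finset.univ.erase i, G a b ≠ 0 := Finset.prod_ne_zero_iff.2 fun _ _ => hG
  have hr : r ≠ 0 := fun h0 => mul_ne_zero hG hne (by rw [← key a b, h0, mul_zero])
  refine ⟨(∏ j ∈ Finset.univ.erase i, G a b) / r, Matrix.ext fun a' b' => ?_⟩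
  rw [Matrix.smul_apply, smul_eq_mul, div_mul_eq_mul_div, eq_div_iff hr, key, mul_comm]

end Wreath

section Transport

variable {κ ι : Type} [Fintype κ] [DecidableEq κ] [Fintype ι] [DecidableEq ι]

/-- changing coordinates by a bijection of indices and a matrix -/
def theta (η : κ ≃ ι) (P : GL ι F) : GL κ F ≃* GL ι F := (Cfsg.Geo.glReindex η).trans (MulAut.conj P)

theorem theta_mulVec (η : κ ≃ ι) (P : GL ι F) (h : GL κ F) (v : κ → F) :
    (theta η P h : Matrix ι ι F) *ᵥ ((P : Matrix ι ι F) *ᵥ (v ∘ η.symm)) =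
      (P : Matrix ι ι F) *ᵥ (((h : Matrix κ κ F) *ᵥ v) ∘ η.symm) := by
  show ((P : Matrix ι ι F) * (Matrix.reindex η η (h : Matrix κ κ F)) * ((P⁻¹ : GL ι F) : Matrix ι ι F)) *ᵥ _ = _
  rw [Matrix.mulVec_mulVec, mul_assoc, Units.inv_mul, mul_one, ← Matrix.mulVec_mulVec]
  congr 1
  rw [Matrix.reindex_apply, Matrix.submatrix_mulVec_equiv, Equiv.symm_symm, Function.comp_assoc,
    Equiv.symm_comp_self, Function.comp_id]

/-- the form in the new coordinates -/
def pullQ (η : κ ≃ ι) (P : GL ι F) (Q : (ι → F) → F) : (κ → F) → F :=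
  fun v => Q ((P : Matrix ι ι F) *ᵥ (v ∘ η.symm))

theorem mem_iso_theta (η : κ ≃ ι) (P : GL ι F) (Q : (ι → F) → F) (h : GL κ F) :
    theta η P h ∈ Cfsg.isometryGroup F Q ↔ h ∈ Cfsg.isometryGroup F (pullQ η P Q) := by
  constructor
  · intro H u _
    show Q ((P : Matrix ι ι F) *ᵥ (((h : Matrix κ κ F) *ᵥ u) ∘ η.symm)) = _
    rw [← theta_mulVec η P h u]
    exact H _ 0
  · intro H u _
    show Q ((theta η P h : Matrix ι ι F) *ᵥ u) = Q u
    have hu : u = (P : Matrix ι ι F) *ᵥ ((((P⁻¹ : GL ι F) : Matrix ι ι F) *ᵥ u) ∘ η ∘ η.symm) := by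
      rw [Equiv.self_comp_symm, Function.comp_id, Matrix.mulVec_mulVec, Units.mul_inv, Matrix.one_mulVec]
    rw [hu, ← Function.comp_assoc, theta_mulVec η P h]
    exact H _ 0

theorem map_iso (η : κ ≃ ι) (P : GL ι F) (Q : (ι → F) → F) :
    (Cfsg.isometryGroup F (pullQ η P Q)).map (theta η P).toMonoidHom = Cfsg.isometryGroup F Q := by
  ext g
  constructor
  · rintro ⟨h, hh, rfl⟩
    exact (mem_iso_theta η P Q h).2 hh
  · intro hg
    exact ⟨(theta η P).symm g, (mem_iso_theta η P Q _).1 (by rwa [MulEquiv.apply_symm_apply]),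
      (theta η P).apply_symm_apply g⟩

theorem map_omega [CharP F 2] (η : κ ≃ ι) (P : GL ι F) (Q : (ι → F) → F) :
    (Cfsg.Geo.omegaGL (pullQ η P Q)).map (theta η P).toMonoidHom = Cfsg.Geo.omegaGL Q := by
  rw [omegaGL_eq, omegaGL_eq, Subgroup.map_commutator, map_iso]

end Transport

section Main

variable {ν : Type} [Fintype ν] [DecidableEq ν] [CharP F 2]

/-- the normaliser of `W` -/
def normW (ν : Type) [Fintype ν] [DecidableEq ν] (F : Type*) [Field F] : Subgroup (GL (ν → Fin 2) F) where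
  carrier := {g | (∀ M ∈ W ν F, (g : Matrix (ν → Fin 2) (ν → Fin 2) F) * M *
      ((g⁻¹ : GL (ν → Fin 2) F) : Matrix (ν → Fin 2) (ν → Fin 2) F) ∈ W ν F) ∧
    ∀ M ∈ W ν F, ((g⁻¹ : GL (ν → Fin 2) F) : Matrix (ν → Fin 2) (ν → Fin 2) F) * M *
      (g : Matrix (ν → Fin 2) (ν → Fin 2) F) ∈ W ν F}
  one_mem' := ⟨fun M hM => by simpa using hM, fun M hM => by simpa using hM⟩
  mul_mem' {g h} hg hh := ⟨fun M hM => by
      simpa [mul_assoc] using hg.1 _ (hh.1 M hM),
    fun M hM => by simpa [mul_assoc] using hh.2 _ (hg.2 M hM)⟩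
  inv_mem' {g} hg := ⟨fun M hM => by simpa using hg.2 M hM, fun M hM => by simpa using hg.1 M hM⟩

theorem op_zero {μ κ : Type} [Fintype μ] [DecidableEq μ] [Fintype κ] [DecidableEq κ] (i : μ) :
    op i (0 : Matrix κ κ F) = 0 := pure_eq_zero _ i (Function.update_self _ _ _)

variable {μ ρ : Type} [Fintype μ] [DecidableEq μ] [Fintype ρ] [DecidableEq ρ]

theorem op_mem_W (i : μ) {Y : Matrix (ρ → Fin 2) (ρ → Fin 2) F} (hY : Y ∈ W ρ F) :
    (Matrix.reindexAlgEquiv F F (Equiv.curry μ ρ (Fin 2))).symm (op i Y) ∈ W (μ × ρ) F := by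
  induction hY using Submodule.span_induction with
  | mem Y hY =>
    rcases hY with hY | ⟨r, hY | hY⟩
    · rw [Set.mem_singleton_iff.1 hY, op_one, map_one]; exact one_mem_W
    · rw [hY, ← op_curry (i, r), ← Matrix.reindexAlgEquiv_apply F F, AlgEquiv.symm_apply_apply]; exact op_E_mem _
    · rw [hY, ← op_curry (i, r), ← Matrix.reindexAlgEquiv_apply F F, AlgEquiv.symm_apply_apply]; exact op_F_mem _
  | zero => rw [op_zero, map_zero]; exact zero_mem _
  | add X Y _ _ h1 h2 => rw [op_add, map_add]; exact add_mem h1 h2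
  | smul a X _ h1 => rw [op_smul, map_smul]; exact Submodule.smul_mem _ a h1

/-- the matrices of the shape pure tensor times permutation, in the qubit coordinates -/
def IsWreath (h : GL (μ × ρ → Fin 2) F) : Prop :=
  ∃ (A : μ → GL (ρ → Fin 2) F) (π : Equiv.Perm μ),
    Matrix.reindexAlgEquiv F F (Equiv.curry μ ρ (Fin 2)) (h : Matrix (μ × ρ → Fin 2) (μ × ρ → Fin 2) F) =
      form (fun i => (A i : Matrix (ρ → Fin 2) (ρ → Fin 2) F)) π

theorem wreath_normalizes {Q : ((μ × ρ → Fin 2) → F) → F} {c : F} (hQ : QHyp Q c) (hc : c ≠ 0)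
    (hloc : LocalInv ρ F) {h : GL (μ × ρ → Fin 2) F} (hw : IsWreath h) (hi : h ∈ Cfsg.isometryGroup F Q) :
    ∀ M ∈ W (μ × ρ) F, (h : Matrix (μ × ρ → Fin 2) (μ × ρ → Fin 2) F) * M *
      ((h⁻¹ : GL (μ × ρ → Fin 2) F) : Matrix (μ × ρ → Fin 2) (μ × ρ → Fin 2) F) ∈ W (μ × ρ) F := by
  obtain ⟨A, π, hA⟩ := hw
  set Mh := (h : Matrix (μ × ρ → Fin 2) (μ × ρ → Fin 2) F)
  set Ji := ((h⁻¹ : GL (μ × ρ → Fin 2) F) : Matrix (μ × ρ → Fin 2) (μ × ρ → Fin 2) F)
  set Z := Matrix.reindexAlgEquiv F F (Equiv.curry μ ρ (Fin 2))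
  let J : Matrix (μ × ρ → Fin 2) (μ × ρ → Fin 2) F := pure fun _ => Jq
  have hJ : Z J = pure fun _ : μ => pure fun _ : ρ => Jq :=
    (Matrix.reindexAlgEquiv_apply F F _ _).trans (pure_curry _)
  have hform : Mhᵀ * J * Mh = J := by
    refine Matrix.ext fun x y => ?_
    have hq : ∀ v, Q (Mh *ᵥ v) = Q v := fun v => hi v 0
    have hp : QuadraticMap.polar Q (Mh *ᵥ Pi.single x 1) (Mh *ᵥ Pi.single y 1) =
        QuadraticMap.polar Q (Pi.single x 1) (Pi.single y 1) := by
      simp only [QuadraticMap.polar, ← Matrix.mulVec_add, hq]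
    rw [hQ.polar_eq, hQ.polar_eq] at hp
    have := mul_left_cancel₀ hc hp
    rw [Matrix.mulVec_mulVec, Matrix.mulVec_single_one, Matrix.mulVec_single_one, Matrix.mulVec_single_one,
      single_dotProduct, one_mul] at this
    rw [mul_assoc]
    exact this
  have hC : ∀ j, ∃ l : F, (A (π.symm j) : Matrix (ρ → Fin 2) (ρ → Fin 2) F)ᵀ * pure (fun _ => Jq) *
      (A (π.symm j) : Matrix _ _ F) = l • pure (fun _ => Jq) := by
    have := congrArg Z hform
    rw [map_mul, map_mul, hA, hJ, show Z Mhᵀ = (Z Mh)ᵀ from rfl, hA, form_transpose, pure, form_mul, form_mul] at this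
    have e : π * (1 * π.symm) = 1 := by rw [one_mul]; exact Equiv.ext fun j => π.apply_symm_apply j
    rw [e] at this
    intro j
    refine pure_eq_const (C := fun j => (A (π.symm j) : Matrix (ρ → Fin 2) (ρ → Fin 2) F)ᵀ * pure (fun _ => Jq) *
      (A (π.symm j) : Matrix (ρ → Fin 2) (ρ → Fin 2) F)) (G := pure fun _ : ρ => (Jq : Matrix (Fin 2) (Fin 2) F)) (a := fun _ : ρ => (0 : Fin 2)) (b := fun _ : ρ => (1 : Fin 2)) ?_ ?_ j
    · rw [pure_apply]
      exact Finset.prod_ne_zero_iff.2 fun r _ => by simp [Jq]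
    · refine Eq.trans ?_ this
      simp [pure]
  have hgen : ∀ q : μ × ρ, ∀ N : Matrix (Fin 2) (Fin 2) F, N = Eq2 ∨ N = Fq →
      Mh * op q N * Ji ∈ W (μ × ρ) F := by
    intro q N hN
    obtain ⟨l, hl⟩ := hC q.1
    have hY : (A (π.symm q.1) : Matrix _ _ F) * op q.2 N * (((A (π.symm q.1))⁻¹ : GL (ρ → Fin 2) F) : Matrix _ _ F)
        ∈ W ρ F := hloc _ l hl _ (by rcases hN with rfl | rfl; exacts [op_E_mem _, op_F_mem _])
    have hkey : Mh * op q N = Z.symm (op (π.symm q.1) ((A (π.symm q.1) : Matrix _ _ F) * op q.2 N *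
        (((A (π.symm q.1))⁻¹ : GL (ρ → Fin 2) F) : Matrix _ _ F))) * Mh := by
      refine Z.injective ?_
      rw [map_mul, map_mul, AlgEquiv.apply_symm_apply, hA, op_mul_form,
        show Z (op q N) = op q.1 (op q.2 N) from (Matrix.reindexAlgEquiv_apply F F _ _).trans (op_curry q N)]
      conv_lhs => rw [← π.apply_symm_apply q.1]
      rw [form_mul_op, mul_assoc _ _ (A (π.symm q.1) : Matrix (ρ → Fin 2) (ρ → Fin 2) F), Units.inv_mul, mul_one]
    rw [hkey, mul_assoc, show Mh * Ji = 1 from Units.mul_inv h, mul_one]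
    exact op_mem_W _ hY
  intro M hM
  induction hM using Submodule.span_induction with
  | mem M hM =>
    rcases hM with hM | ⟨q, hM | hM⟩
    · rw [Set.mem_singleton_iff.1 hM, mul_one, show Mh * Ji = 1 from Units.mul_inv h]; exact one_mem_W
    · rw [hM]; exact hgen q _ (Or.inl rfl)
    · rw [hM]; exact hgen q _ (Or.inr rfl)
  | zero => simp
  | add X Y _ _ h1 h2 => rw [mul_add, add_mul]; exact add_mem h1 h2
  | smul a X _ h1 => rw [Matrix.mul_smul, Matrix.smul_mul]; exact Submodule.smul_mem _ a h1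

theorem not_wreath {h : GL (μ × ρ → Fin 2) F} {a e : μ × ρ} (hae : a.1 ≠ e.1)
    (hh : (h : Matrix (μ × ρ → Fin 2) (μ × ρ → Fin 2) F) = 1 + op a Eq2 * op e Eq2) : ¬ IsWreath h := by
  rintro ⟨A, π, hA⟩
  have hne : a ≠ e := fun e' => hae (congrArg Prod.fst e')
  let y : μ × ρ → Fin 2 := fun _ => 1
  let ya : μ × ρ → Fin 2 := Function.update y a 0
  let ye : μ × ρ → Fin 2 := Function.update y e 0
  let q : μ × ρ → Fin 2 := Function.update ya e 0
  let g : Matrix (μ × ρ → Fin 2) (μ × ρ → Fin 2) F := 1 + op a Eq2 * op e Eq2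
  have hg : ∀ x z, g x z = form (fun i => (A i : Matrix (ρ → Fin 2) (ρ → Fin 2) F)) π (Equiv.curry μ ρ (Fin 2) x)
      (Equiv.curry μ ρ (Fin 2) z) := fun x z => by
    rw [← hA, Matrix.reindexAlgEquiv_apply, Matrix.reindex_apply, Matrix.submatrix_apply,
      Equiv.symm_apply_apply, Equiv.symm_apply_apply, hh]
  have hs := form_swap_rows (fun i => (A i : Matrix (ρ → Fin 2) (ρ → Fin 2) F)) π (Equiv.curry μ ρ (Fin 2) y)
    (Equiv.curry μ ρ (Fin 2) q) (Equiv.curry μ ρ (Fin 2) y) a.1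
  have h1 : Function.update (Equiv.curry μ ρ (Fin 2) y) a.1 (Equiv.curry μ ρ (Fin 2) q a.1) =
      Equiv.curry μ ρ (Fin 2) ya := by
    funext i r
    rcases eq_or_ne i a.1 with rfl | hi
    · rw [Function.update_self]
      show q (a.1, r) = ya (a.1, r)
      exact Function.update_of_ne (fun (e' : (a.1, r) = e) => by have := congrArg Prod.fst e'; exact hae this) _ _
    · rw [Function.update_of_ne hi]
      show y (i, r) = ya (i, r)
      exact (Function.update_of_ne (fun (e' : (i, r) = a) => by have := congrArg Prod.fst e'; exact hi this) _ _).symm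
  have h2 : Function.update (Equiv.curry μ ρ (Fin 2) q) a.1 (Equiv.curry μ ρ (Fin 2) y a.1) =
      Equiv.curry μ ρ (Fin 2) ye := by
    funext i r
    rcases eq_or_ne i a.1 with rfl | hi
    · rw [Function.update_self]
      show y (a.1, r) = ye (a.1, r)
      exact (Function.update_of_ne (fun (e' : (a.1, r) = e) => by have := congrArg Prod.fst e'; exact hae this) _ _).symm
    · rw [Function.update_of_ne hi]
      show q (i, r) = ye (i, r)
      rcases eq_or_ne (i, r) e with he | he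
      · simp [q, ye, he]
      · simp only [q, ye, ya, Function.update_of_ne he]
        exact Function.update_of_ne (fun (e' : (i, r) = a) => by have := congrArg Prod.fst e'; exact hi this) _ _
  rw [h1, h2, ← hg, ← hg, ← hg, ← hg] at hs
  have hX : ∀ x, (op a (Eq2 : Matrix (Fin 2) (Fin 2) F) * op e Eq2 : Matrix _ _ F) x y =
      if x = q then 1 else 0 := by
    intro x
    rw [op_op_pure hne, pure_apply]
    split_ifs with hx
    · subst hx
      refine Finset.prod_eq_one fun i _ => ?_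
      rcases eq_or_ne i e with rfl | hie
      · simp [q, y, Eq2]
      rcases eq_or_ne i a with rfl | hia
      · simp [q, ya, y, Eq2, Function.update_of_ne hie]
      · simp [q, ya, y, Function.update_of_ne hie, Function.update_of_ne hia]
    · obtain ⟨i, hi⟩ := Function.ne_iff.1 hx
      refine Finset.prod_eq_zero (Finset.mem_univ i) ?_
      rcases eq_or_ne i e with rfl | hie
      · have : x i = 1 := by
          have : x i ≠ 0 := fun h0 => hi (by simp [q, h0])
          exact Fin.eq_one_of_ne_zero _ this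
        simp [y, this, Eq2]
      rcases eq_or_ne i a with rfl | hia
      · have : x i = 1 := by
          have : x i ≠ 0 := fun h0 => hi (by simp [q, ya, h0, Function.update_of_ne hie])
          exact Fin.eq_one_of_ne_zero _ this
        simp [y, this, Eq2, Function.update_of_ne hie]
      · have : x i ≠ 1 := fun h0 => hi (by simp [q, ya, y, h0, Function.update_of_ne hie, Function.update_of_ne hia])
        simp [y, Function.update_of_ne hie, Function.update_of_ne hia, this]
  have hya : ya e = 1 := by simp [ya, y, Function.update_of_ne hne.symm]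
  have hye : ye a = 1 := by simp [ye, y, Function.update_of_ne hne]
  have hyq : y ≠ q := fun h' => by have := congrFun h' e; simp [y, q] at this
  have haq : ya ≠ q := fun h' => by have := congrFun h' e; rw [hya] at this; simp [q] at this
  have heq : ye ≠ q := fun h' => by
    have := congrFun h' a; rw [hye] at this; simp [q, ya, Function.update_of_ne hne] at this
  have hay : ya ≠ y := fun h' => by have := congrFun h' a; simp [y, ya] at this
  simp [g, Matrix.add_apply, hX, hyq, haq, heq, hyq.symm, Matrix.one_apply_ne hyq.symm, Matrix.one_apply_ne hay] at hs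

/-- the abstract statement -/
theorem not_max {ι : Type} [Fintype ι] [DecidableEq ι] (η : (μ × ρ → Fin 2) ≃ ι) (P : GL ι F) (Q : (ι → F) → F)
    {c : F} (hQ : QHyp (pullQ η P Q) c) (hc : c ≠ 0) (hloc : LocalInv ρ F) (T : Subgroup (GL ι F))
    (hT : ∀ h, theta η P h ∈ T → IsWreath h) {a b e d : μ × ρ} (hab : a ≠ b) (hae : a.1 ≠ e.1) (had : a ≠ d)
    (hbe : b ≠ e) (hbd : b ≠ d) (hed : e ≠ d) :
    ∃ K : Subgroup (GL ι F), T ⊓ Cfsg.Geo.omegaGL Q < K ∧ K < Cfsg.Geo.omegaGL Q := by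
  have hae' : a ≠ e := fun e' => hae (congrArg Prod.fst e')
  obtain ⟨⟨g, hg, hginv, hg'⟩, g3, hg3, hg3'⟩ := hQ.exists_elements hab hae' had hbe hbd hed
  refine ⟨(normW (μ × ρ) F ⊓ Cfsg.Geo.omegaGL (pullQ η P Q)).map (theta η P).toMonoidHom,
    lt_of_le_not_ge ?_ ?_, lt_of_le_not_ge ?_ ?_⟩
  · intro x hx
    obtain ⟨hxT, hxΩ⟩ := Subgroup.mem_inf.1 hx
    rw [← map_omega η P Q] at hxΩ
    obtain ⟨h, hh, rfl⟩ := hxΩ
    have hiso : ∀ h, h ∈ Cfsg.Geo.omegaGL (pullQ η P Q) → h ∈ Cfsg.isometryGroup F (pullQ η P Q) := by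
      rintro h ⟨h', -, rfl⟩
      exact h'.2
    refine Subgroup.mem_map_of_mem _ (Subgroup.mem_inf.2 ⟨⟨?_, ?_⟩, hh⟩)
    · exact wreath_normalizes hQ hc hloc (hT h hxT) (hiso h hh)
    · have h1 := wreath_normalizes hQ hc hloc (hT h⁻¹ (by rw [map_inv]; exact inv_mem hxT))
        (hiso h⁻¹ (inv_mem hh))
      simpa using h1
  · intro hle
    have := hle (Subgroup.mem_map_of_mem (theta η P).toMonoidHom (Subgroup.mem_inf.2
      ⟨(⟨fun M hM => by rw [hginv, hg']; exact conj_W hae' hM,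
        fun M hM => by rw [hginv, hg']; exact conj_W hae' hM⟩ : g ∈ normW (μ × ρ) F), hg⟩))
    exact not_wreath hae hg' (hT g (Subgroup.mem_inf.1 this).1)
  · rw [← map_omega η P Q]
    exact Subgroup.map_mono inf_le_right
  · intro hle
    rw [← map_omega η P Q, Subgroup.map_le_map_iff_of_injective (theta η P).injective] at hle
    exact hg3' ((Subgroup.mem_inf.1 (hle hg3)).1.1 _ (op_F_mem a))

end Main

section Apply

variable [Fintype F] [CharP F 2]

/-- the statement for given coordinates in each factor -/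
theorem tensor_wreath {n k t : ℕ} (Q : (Fin n → F) → F) (hQ : Cfsg.Geo.IsNondegenerateQuadraticForm Q)
    (e : Fin n ≃ (Fin t → Fin k)) (P : GL (Fin n) F) (f₁ : (Fin k → F) → (Fin k → F) → F)
    (hT : Cfsg.Geo.IsTensorPowerFormStructure id (QuadraticMap.polar Q) f₁ e P)
    (hpure : ∀ xs : Fin t → (Fin k → F),
      Q ((P : Matrix (Fin n) (Fin n) F) *ᵥ ((fun a : Fin t → Fin k => ∏ i, xs i (a i)) ∘ e)) = 0)
    {ρ : Type} [Fintype ρ] [DecidableEq ρ] (hloc : LocalInv ρ F) (enc : (ρ → Fin 2) ≃ Fin k)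
    (B : GL (ρ → Fin 2) F) {γ : F} (hγ : γ ≠ 0)
    (hB : (B : Matrix (ρ → Fin 2) (ρ → Fin 2) F)ᵀ *
      Matrix.reindex enc.symm enc.symm (Cfsg.Geo.gramMatrix f₁) * (B : Matrix _ _ F) = γ • pure fun _ => Jq)
    {a b c' d : Fin t × ρ} (hab : a ≠ b) (hac : a.1 ≠ c'.1) (had : a ≠ d)
    (hbc : b ≠ c') (hbd : b ≠ d) (hcd : c' ≠ d) :
    ∃ K : Subgroup (GL (Fin n) F),
      Cfsg.Geo.tensorWreathSubgroup k t e P ⊓ Cfsg.Geo.omegaGL Q < K ∧ K < Cfsg.Geo.omegaGL Q := by
  let cu := Equiv.curry (Fin t) ρ (Fin 2)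
  let ac := (Equiv.refl (Fin t)).arrowCongr enc
  let η : (Fin t × ρ → Fin 2) ≃ Fin n := (cu.trans ac).trans e.symm
  let R := Matrix.reindexAlgEquiv F F cu
  let Bm : Matrix (Fin t × ρ → Fin 2) (Fin t × ρ → Fin 2) F :=
    R.symm (pure fun _ => (B : Matrix (ρ → Fin 2) (ρ → Fin 2) F))
  let Bi : Matrix (Fin t × ρ → Fin 2) (Fin t × ρ → Fin 2) F :=
    R.symm (pure fun _ => ((B⁻¹ : GL (ρ → Fin 2) F) : Matrix (ρ → Fin 2) (ρ → Fin 2) F))
  have hmi : Bm * Bi = 1 ∧ Bi * Bm = 1 := by
    simp only [Bm, Bi, ← map_mul, pure_mul, Units.mul_inv, Units.inv_mul]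
    rw [pure, form_one, map_one]
    exact ⟨rfl, rfl⟩
  let BU : GL (Fin t × ρ → Fin 2) F := ⟨Bm, Bi, hmi.1, hmi.2⟩
  let P' : GL (Fin n) F := P * Cfsg.Geo.glReindex η BU
  obtain ⟨c, hc, hT⟩ := hT
  -- the new coordinates
  have hL : ∀ v : (Fin t × ρ → Fin 2) → F, (P' : Matrix (Fin n) (Fin n) F) *ᵥ (v ∘ η.symm) =
      (P : Matrix (Fin n) (Fin n) F) *ᵥ (((Bm *ᵥ v) ∘ (cu.trans ac).symm) ∘ e) := fun v => by
    show ((P : Matrix (Fin n) (Fin n) F) * Matrix.reindex η η Bm) *ᵥ _ = _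
    rw [← Matrix.mulVec_mulVec, Matrix.reindex_apply, Matrix.submatrix_mulVec_equiv, Equiv.symm_symm,
      Function.comp_assoc v, Equiv.symm_comp_self, Function.comp_id]
    rfl
  let G' : Matrix (ρ → Fin 2) (ρ → Fin 2) F := Matrix.reindex enc.symm enc.symm (Cfsg.Geo.gramMatrix f₁)
  let Gν : Matrix (Fin t × ρ → Fin 2) (Fin t × ρ → Fin 2) F := R.symm (pure fun _ => G')
  have hp : ∀ x y : (Fin t × ρ → Fin 2) → F,
      QuadraticMap.polar Q ((P : Matrix (Fin n) (Fin n) F) *ᵥ ((x ∘ (cu.trans ac).symm) ∘ e))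
        ((P : Matrix (Fin n) (Fin n) F) *ᵥ ((y ∘ (cu.trans ac).symm) ∘ e)) = c * dotProduct x (Gν *ᵥ y) := by
    intro x y
    rw [hT]
    congr 1
    show _ = ∑ a, x a * ∑ b, Gν a b * y b
    simp only [Finset.mul_sum, id]
    refine Fintype.sum_equiv (cu.trans ac).symm _ _ fun a => Fintype.sum_equiv (cu.trans ac).symm _ _ fun b => ?_
    rw [← mul_assoc]
    congr 1
    congr 1
    show _ = pure (fun _ => G') (cu ((cu.trans ac).symm a)) (cu ((cu.trans ac).symm b))
    rw [pure_apply]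
    refine Finset.prod_congr rfl fun i _ => ?_
    simp [G', cu, ac, Equiv.arrowCongr]
  have hGB : Bmᵀ * Gν * Bm = γ ^ t • pure (fun _ : Fin t × ρ => Jq) := by
    refine R.injective ?_
    have hR : ∀ X, R Xᵀ = (R X)ᵀ := fun X => rfl
    rw [map_mul, map_mul, hR, AlgEquiv.apply_symm_apply, AlgEquiv.apply_symm_apply, pure, form_transpose, map_smul,
      show R (pure fun _ : Fin t × ρ => Jq) = pure fun _ : Fin t => pure fun _ : ρ => Jq from
        (Matrix.reindexAlgEquiv_apply F F _ _).trans (pure_curry _)]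
    simp only [Equiv.Perm.one_symm, Equiv.Perm.one_apply]
    rw [← pure, pure_mul, pure, form_mul, mul_one]
    ext x y
    rw [Matrix.smul_apply, form_apply, pure_apply, smul_eq_mul,
      show (B : Matrix (ρ → Fin 2) (ρ → Fin 2) F)ᵀ * G' * (B : Matrix _ _ F) = γ • pure (fun _ => Jq) from hB]
    simp only [Equiv.Perm.one_apply, Matrix.smul_apply, smul_eq_mul, Finset.prod_mul_distrib, Finset.prod_const,
      Finset.card_univ, Fintype.card_fin]
  have hQ1 : QHyp (pullQ η P' Q) (c * γ ^ t) := by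
    refine ⟨fun s v => ?_, fun u v => ?_, fun z => ?_⟩
    · show Q _ = s ^ 2 * Q _
      rw [show (s • v) ∘ η.symm = s • (v ∘ η.symm) from rfl, Matrix.mulVec_smul, hQ.smul]
    · have : QuadraticMap.polar (pullQ η P' Q) u v = QuadraticMap.polar Q ((P' : Matrix _ _ F) *ᵥ (u ∘ η.symm))
          ((P' : Matrix _ _ F) *ᵥ (v ∘ η.symm)) := by
        simp only [QuadraticMap.polar, pullQ, ← Matrix.mulVec_add]
        rfl
      rw [this, hL, hL, hp, mul_assoc c]
      congr 1
      rw [← smul_eq_mul, ← dotProduct_smul, ← Matrix.smul_mulVec, ← hGB, Matrix.mul_assoc,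
        ← Matrix.mulVec_mulVec, ← Matrix.mulVec_mulVec, Matrix.dotProduct_mulVec _ Bmᵀ, Matrix.vecMul_transpose]
    · show Q _ = 0
      rw [hL, Matrix.mulVec_single_one]
      refine Eq.trans (congrArg (fun w => Q ((P : Matrix (Fin n) (Fin n) F) *ᵥ (w ∘ e))) (funext fun x => ?_))
        (hpure fun i j => (B : Matrix (ρ → Fin 2) (ρ → Fin 2) F) (enc.symm j) (cu z i))
      show pure (fun _ => (B : Matrix (ρ → Fin 2) (ρ → Fin 2) F)) (cu ((cu.trans ac).symm x)) (cu z) = _
      rw [pure_apply]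
      refine Finset.prod_congr rfl fun i _ => ?_
      simp [cu, ac, Equiv.arrowCongr]
  refine not_max η P' Q hQ1 (mul_ne_zero hc (pow_ne_zero _ hγ)) hloc _ (fun h hh => ?_) hab hac had hbc hbd hcd
  -- wreath shape
  obtain ⟨s', hs', hs⟩ := hh
  obtain ⟨s, hs1, rfl⟩ := hs'
  obtain ⟨A, π, hA⟩ := exists_form hs1
  have e1 : Matrix.reindex e.symm e.symm (s : Matrix (Fin t → Fin k) (Fin t → Fin k) F) =
      Matrix.reindex η η (Bm * (h : Matrix _ _ F) * Bi) := by
    have : Cfsg.Geo.glReindex e.symm s = Cfsg.Geo.glReindex η (BU * h * BU⁻¹) := by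
      have e0 : P * Cfsg.Geo.glReindex e.symm s * P⁻¹ =
          P' * Cfsg.Geo.glReindex η h * P'⁻¹ := hs
      rw [map_mul, map_mul, map_inv]
      have e2 : P * Cfsg.Geo.glReindex e.symm s * P⁻¹ =
          P * (Cfsg.Geo.glReindex η BU * Cfsg.Geo.glReindex η h * (Cfsg.Geo.glReindex η BU)⁻¹) * P⁻¹ := by
        rw [e0]; simp only [P', _root_.mul_inv_rev]; group
      exact mul_left_cancel (mul_right_cancel e2)
    exact congrArg Units.val this
  have e3 : R (Bm * (h : Matrix _ _ F) * Bi) =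
      form (fun i => Matrix.reindex enc.symm enc.symm (A i : Matrix (Fin k) (Fin k) F)) π := by
    rw [← pure_reindex enc, ← hA]
    ext x y
    have := congrFun (congrFun e1 (e.symm (ac x))) (e.symm (ac y))
    simp [η, R] at this ⊢
    exact this.symm
  refine ⟨fun i => B⁻¹ * Cfsg.Geo.glReindex enc.symm (A i) * B, π, ?_⟩
  have hh' : (h : Matrix (Fin t × ρ → Fin 2) (Fin t × ρ → Fin 2) F) = Bi * (Bm * (h : Matrix _ _ F) * Bi) * Bm := by
    rw [← mul_assoc, ← mul_assoc, hmi.2, one_mul, mul_assoc, hmi.2, mul_one]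
  show R _ = _
  rw [hh', map_mul, map_mul, e3, AlgEquiv.apply_symm_apply, AlgEquiv.apply_symm_apply, pure, pure, form_mul,
    form_mul]
  simp only [mul_one, Equiv.Perm.one_apply, one_mul]
  rfl

theorem gram_alt {κ : Type} [Fintype κ] [DecidableEq κ] {f : (κ → F) → (κ → F) → F}
    (hf : Cfsg.Geo.IsSymplecticForm f) :
    (∀ x y, Cfsg.Geo.formOfGram id (Cfsg.Geo.gramMatrix f) x y = f x y) :=
  NotMax.formOfGram_bilinear id hf.bilinear.add_left hf.bilinear.smul_left hf.bilinear.add_right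
    fun c v x => hf.bilinear.smul_right c v x

/-- coordinates of `Fin 2 ⊕ Fin 2` on pairs -/
def pairSum : (Fin 2 → Fin 2) ≃ Fin 2 ⊕ Fin 2 where
  toFun x := if x 0 = 0 then Sum.inl (x 1) else Sum.inr (1 - x 1)
  invFun := Sum.elim (fun b => ![0, b]) (fun b => ![1, 1 - b])
  left_inv x := by revert x; decide
  right_inv y := by revert y; decide

theorem exists_frame_four (f : (Fin 4 → F) → (Fin 4 → F) → F) (hf : Cfsg.Geo.IsSymplecticForm f)
    (enc : (Fin 2 → Fin 2) ≃ Fin 4) :
    ∃ B : GL (Fin 2 → Fin 2) F, (B : Matrix (Fin 2 → Fin 2) (Fin 2 → Fin 2) F)ᵀ *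
      Matrix.reindex enc.symm enc.symm (Cfsg.Geo.gramMatrix f) * (B : Matrix _ _ F) =
        (1 : F) • pure fun _ => Jq := by
  let σ : Fin 4 ≃ Fin 2 ⊕ Fin 2 := enc.symm.trans pairSum
  let M := Matrix.reindex σ σ (Cfsg.Geo.gramMatrix f)
  have hbil : ∀ u w, dotProduct u (M *ᵥ w) = f (u ∘ σ) (w ∘ σ) := fun u w => by
    rw [← gram_alt hf, Cfsg.Geo.formOfGram]
    show ∑ a, u a * ∑ b, M a b * w b = _
    simp only [Finset.mul_sum, id]
    refine (Fintype.sum_equiv σ _ _ fun a => Fintype.sum_equiv σ _ _ fun b => ?_).symm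
    simp [M, mul_assoc]
  have hdet : M.det ≠ 0 := fun h0 => by
    obtain ⟨v, hv, hMv⟩ := Matrix.exists_mulVec_eq_zero_iff.2 h0
    have hv' : v ∘ σ ≠ 0 := fun h' => hv (funext fun i => by simpa using congrFun h' (σ.symm i))
    obtain ⟨x, hx⟩ := (hf.nondegenerate _ hv').1
    apply hx
    have := hbil (x ∘ σ.symm) v
    rw [hMv, dotProduct_zero, Function.comp_assoc, Equiv.symm_comp_self, Function.comp_id] at this
    exact this.symm
  have halt : ∀ u, Matrix.toBilin' M u u = 0 := fun u => by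
    rw [Matrix.toBilin'_apply', hbil]; exact hf.alternating _
  obtain ⟨k, hk⟩ := AutPSp.exists_symp_congr M hdet halt
  let B := Matrix.reindex pairSum.symm pairSum.symm k
  have hJ : Matrix.reindex pairSum.symm pairSum.symm (Matrix.J (Fin 2) F) = pure fun _ : Fin 2 => Jq := by
    ext x y
    rw [pure_apply, Fin.prod_univ_two, pair_eta x, pair_eta y]
    generalize x 0 = a; generalize x 1 = b; generalize y 0 = c; generalize y 1 = d
    fin_cases a <;> fin_cases b <;> fin_cases c <;> fin_cases d <;>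
      simp [pairSum, Matrix.J, Jq, CharTwo.neg_eq]
  have hBdet : IsUnit B.det := by
    rw [Matrix.det_reindex_self, isUnit_iff_ne_zero]
    intro h0
    have h1 := congrArg Matrix.det hk
    rw [Matrix.det_mul, Matrix.det_mul, h0, mul_zero] at h1
    exact (Matrix.isUnit_det_J (Fin 2) F).ne_zero h1.symm
  refine ⟨(Matrix.nonsingInvUnit B hBdet), ?_⟩
  rw [one_smul, ← hJ, ← hk]
  show Bᵀ * _ * B = _
  have e : Matrix.reindex enc.symm enc.symm (Cfsg.Geo.gramMatrix f) = Matrix.reindex pairSum.symm pairSum.symm M := by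
    ext x y; simp [M, σ]
  rw [e, Matrix.transpose_reindex]
  simp [B, Matrix.submatrix_mul_equiv]

theorem frame_two (f : (Fin 2 → F) → (Fin 2 → F) → F) (hf : Cfsg.Geo.IsSymplecticForm f)
    (enc : (Fin 1 → Fin 2) ≃ Fin 2) :
    ∃ (B : GL (Fin 1 → Fin 2) F) (γ : F), γ ≠ 0 ∧ (B : Matrix (Fin 1 → Fin 2) (Fin 1 → Fin 2) F)ᵀ *
      Matrix.reindex enc.symm enc.symm (Cfsg.Geo.gramMatrix f) * (B : Matrix _ _ F) = γ • pure fun _ => Jq := by
  let v : Fin 2 → (Fin 1 → Fin 2) := fun a _ => a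
  let G := Matrix.reindex enc.symm enc.symm (Cfsg.Geo.gramMatrix f)
  have hG : ∀ x y, G x y = f (Pi.single (enc x) 1) (Pi.single (enc y) 1) := fun x y => by
    simp [G, Cfsg.Geo.gramMatrix]
  have hv : ∀ x : Fin 1 → Fin 2, ∃ a, x = v a := fun x => ⟨x 0, funext fun i => by rw [Subsingleton.elim i 0]⟩
  have hd : ∀ x, G x x = 0 := fun x => by rw [hG]; exact hf.alternating _
  have hs : G (v 1) (v 0) = G (v 0) (v 1) := by rw [hG, hG, hf.skew, CharTwo.neg_eq]
  have hne : G (v 0) (v 1) ≠ 0 := fun h0 => by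
    obtain ⟨w, hw⟩ := (hf.nondegenerate (Pi.single (enc (v 0)) 1) (by simp)).2
    apply hw
    rw [← gram_alt hf, Cfsg.Geo.formOfGram]
    refine Finset.sum_eq_zero fun a _ => Finset.sum_eq_zero fun b _ => ?_
    rcases eq_or_ne a (enc (v 0)) with rfl | ha
    · obtain ⟨c, hc⟩ := hv (enc.symm b)
      have : Cfsg.Geo.gramMatrix f (enc (v 0)) b = G (v 0) (v c) := by
        rw [← hc, hG, Equiv.apply_symm_apply]; rfl
      rw [this]
      fin_cases c
      · simp [hd]
      · simp [h0]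
    · simp [Pi.single_eq_of_ne ha]
  refine ⟨1, G (v 0) (v 1), hne, ?_⟩
  rw [Units.val_one, Matrix.transpose_one, one_mul, mul_one]
  ext x y
  obtain ⟨a, rfl⟩ := hv x
  obtain ⟨b, rfl⟩ := hv y
  show G _ _ = _
  rw [Matrix.smul_apply, pure_apply, Fintype.prod_unique, smul_eq_mul]
  fin_cases a <;> fin_cases b <;> simp [v, Jq, hd] <;> exact hs

end Apply

end Cfsg.Agent.SpinWreath
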