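import Cfsg.Agent.SpinWreath.Qubit

/-!
Similitudes of the tensor factors of dimension two and four normalise the local space `W`.
-/

set_option autoImplicit false
set_option linter.unusedSectionVars false

namespace Cfsg.Agent.SpinWreath

open Matrix

variable {F : Type*} [Field F] [CharP F 2]

/-- invariance of `W` under similitudes of the hyperbolic form -/
def LocalInv (ρ : Type) [Fintype ρ] [DecidableEq ρ] (F : Type*) [Field F] : Prop :=
  ∀ (A : GL (ρ → Fin 2) F) (l : F),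
    (A : Matrix (ρ → Fin 2) (ρ → Fin 2) F)ᵀ * pure (fun _ => Jq) * (A : Matrix _ _ F) = l • pure (fun _ => Jq) →
    ∀ M ∈ W ρ F, (A : Matrix _ _ F) * M * ((A⁻¹ : GL (ρ → Fin 2) F) : Matrix _ _ F) ∈ W ρ F

theorem op_fin_one (N : Matrix (Fin 2) (Fin 2) F) (a b : Fin 2) :
    op (0 : Fin 1) N (fun _ => a) (fun _ => b) = N a b := by
  simp [op, pure_apply]

theorem mem_W_one (M : Matrix (Fin 1 → Fin 2) (Fin 1 → Fin 2) F) (h : M.trace = 0) : M ∈ W (Fin 1) F := by
  let v : Fin 2 → (Fin 1 → Fin 2) := fun a _ => a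
  have hv : ∀ x : Fin 1 → Fin 2, ∃ a, x = v a := fun x => ⟨x 0, funext fun i => by rw [Subsingleton.elim i 0]⟩
  have h2 : ∀ a b, (1 : Matrix (Fin 1 → Fin 2) (Fin 1 → Fin 2) F) (v a) (v b) = if a = b then 1 else 0 := by
    intro a b
    rcases eq_or_ne a b with rfl | hab
    · simp
    · rw [Matrix.one_apply_ne fun e => hab (congrFun e 0), if_neg hab]
  have hd : M (v 1) (v 1) = M (v 0) (v 0) := by
    rw [Matrix.trace, ← (Equiv.funUnique (Fin 1) (Fin 2)).symm.sum_comp, Fin.sum_univ_two] at h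
    exact (CharTwo.add_eq_zero.1 h).symm
  have e : M = M (v 0) (v 0) • 1 + M (v 0) (v 1) • op 0 Eq2 + M (v 1) (v 0) • op 0 Fq := by
    ext x y
    obtain ⟨a, rfl⟩ := hv x
    obtain ⟨b, rfl⟩ := hv y
    simp only [Matrix.add_apply, Matrix.smul_apply, smul_eq_mul, h2]
    rw [show op 0 (Eq2 : Matrix (Fin 2) (Fin 2) F) (v a) (v b) = Eq2 a b from op_fin_one _ a b,
      show op 0 (Fq : Matrix (Fin 2) (Fin 2) F) (v a) (v b) = Fq a b from op_fin_one _ a b]
    fin_cases a <;> fin_cases b <;> simp [Eq2, Fq, hd]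
  rw [e]
  exact add_mem (add_mem (Submodule.smul_mem _ _ one_mem_W) (Submodule.smul_mem _ _ (op_E_mem 0)))
    (Submodule.smul_mem _ _ (op_F_mem 0))

theorem trace_W_one {M : Matrix (Fin 1 → Fin 2) (Fin 1 → Fin 2) F} (h : M ∈ W (Fin 1) F) : M.trace = 0 := by
  induction h using Submodule.span_induction with
  | mem M hM =>
    rw [Matrix.trace, ← (Equiv.funUnique (Fin 1) (Fin 2)).symm.sum_comp, Fin.sum_univ_two]
    rcases hM with hM | ⟨q, hM | hM⟩
    · simp only [Set.mem_singleton_iff.1 hM, Matrix.diag, Matrix.one_apply_eq]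
      exact CharTwo.add_self_eq_zero _
    · rw [hM, Subsingleton.elim q 0]
      simp [Matrix.diag, op, pure_apply, Eq2]
    · rw [hM, Subsingleton.elim q 0]
      simp [Matrix.diag, op, pure_apply, Fq]
  | zero => simp
  | add X Y _ _ h1 h2 => rw [Matrix.trace_add, h1, h2, add_zero]
  | smul a X _ h1 => rw [Matrix.trace_smul, h1, smul_zero]

theorem localInv_one : LocalInv (Fin 1) F := fun A _ _ M hM => mem_W_one _ (by
  rw [Matrix.trace_mul_comm, ← mul_assoc, Units.inv_mul, one_mul, trace_W_one hM])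

/-- the alternating operators with scalar square -/
def IsAltSq {ρ : Type} [Fintype ρ] [DecidableEq ρ] (M : Matrix (ρ → Fin 2) (ρ → Fin 2) F) : Prop :=
  ((pure fun _ : ρ => (Jq : Matrix (Fin 2) (Fin 2) F)) * M)ᵀ = (pure fun _ : ρ => (Jq : Matrix (Fin 2) (Fin 2) F)) * M ∧
    (∀ x, ((pure fun _ : ρ => (Jq : Matrix (Fin 2) (Fin 2) F)) * M) x x = 0) ∧
    ∀ x y, (M * M) x x = (M * M) y y

theorem pair_eta (x : Fin 2 → Fin 2) : x = ![x 0, x 1] := by
  funext i; fin_cases i <;> rfl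

theorem Jtwo_mul_apply (M : Matrix (Fin 2 → Fin 2) (Fin 2 → Fin 2) F) (a b c d : Fin 2) :
    ((pure fun _ : Fin 2 => (Jq : Matrix (Fin 2) (Fin 2) F)) * M) ![a, b] ![c, d] = M ![1 - a, 1 - b] ![c, d] := by
  rw [Matrix.mul_apply, ← (finTwoArrowEquiv (Fin 2)).symm.sum_comp, Fintype.sum_prod_type]
  simp [Fin.sum_univ_two, pure_apply, Fin.prod_univ_two, Jq]
  fin_cases a <;> fin_cases b <;> simp

theorem mem_W_two (M : Matrix (Fin 2 → Fin 2) (Fin 2 → Fin 2) F) (h : IsAltSq M) : M ∈ W (Fin 2) F := by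
  obtain ⟨hs, hd, hsq⟩ := h
  have s : ∀ a b c d : Fin 2, M ![1 - a, 1 - b] ![c, d] = M ![1 - c, 1 - d] ![a, b] := fun a b c d => by
    rw [← Jtwo_mul_apply M a b c d, ← Jtwo_mul_apply M c d a b]
    exact (congrFun (congrFun hs _) _).symm
  have z : ∀ a b : Fin 2, M ![1 - a, 1 - b] ![a, b] = 0 := fun a b => by rw [← Jtwo_mul_apply M a b a b]; exact hd _
  have z00 : M ![0, 0] ![1, 1] = 0 := z 1 1
  have z01 : M ![0, 1] ![1, 0] = 0 := z 1 0
  have z10 : M ![1, 0] ![0, 1] = 0 := z 0 1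
  have z11 : M ![1, 1] ![0, 0] = 0 := z 0 0
  have s1 : M ![0, 1] ![1, 1] = M ![0, 0] ![1, 0] := s 1 0 1 1
  have s2 : M ![1, 0] ![1, 1] = M ![0, 0] ![0, 1] := s 0 1 1 1
  have s3 : M ![1, 1] ![1, 1] = M ![0, 0] ![0, 0] := s 0 0 1 1
  have s4 : M ![1, 0] ![1, 0] = M ![0, 1] ![0, 1] := s 0 1 1 0
  have s5 : M ![1, 1] ![0, 1] = M ![1, 0] ![0, 0] := s 0 0 0 1
  have s6 : M ![1, 1] ![1, 0] = M ![0, 1] ![0, 0] := s 0 0 1 0
  have hq := hsq ![0, 0] ![0, 1]
  rw [Matrix.mul_apply, Matrix.mul_apply, ← (finTwoArrowEquiv (Fin 2)).symm.sum_comp,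
    ← (finTwoArrowEquiv (Fin 2)).symm.sum_comp, Fintype.sum_prod_type, Fintype.sum_prod_type] at hq
  simp only [Fin.sum_univ_two, finTwoArrowEquiv_symm_apply] at hq
  rw [z00, z01, s1, s5, z11] at hq
  have hcd : M ![0, 1] ![0, 1] = M ![0, 0] ![0, 0] := by
    have : M ![0, 1] ![0, 1] ^ 2 = M ![0, 0] ![0, 0] ^ 2 := by linear_combination -hq
    exact (frobenius_inj F 2) (by simpa [frobenius_def] using this)
  have e : M = M ![0, 0] ![0, 0] • 1 + M ![0, 0] ![1, 0] • op 0 Eq2 + M ![0, 0] ![0, 1] • op 1 Eq2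
      + M ![1, 0] ![0, 0] • op 0 Fq + M ![0, 1] ![0, 0] • op 1 Fq := by
    ext x y
    rw [pair_eta x, pair_eta y]
    simp only [Matrix.add_apply, Matrix.smul_apply, smul_eq_mul, op, pure_apply, Fin.prod_univ_two,
      Matrix.cons_val_zero, Matrix.cons_val_one, Function.update_self,
      Function.update_of_ne (show (1 : Fin 2) ≠ 0 by decide), Function.update_of_ne (show (0 : Fin 2) ≠ 1 by decide)]
    generalize x 0 = a; generalize x 1 = b; generalize y 0 = c; generalize y 1 = d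
    fin_cases a <;> fin_cases b <;> fin_cases c <;> fin_cases d <;>
      simp [Eq2, Fq, z00, z01, z10, z11, s1, s2, s3, s4, s5, s6, hcd, Matrix.one_apply]
  rw [e]
  exact add_mem (add_mem (add_mem (add_mem (Submodule.smul_mem _ _ one_mem_W)
    (Submodule.smul_mem _ _ (op_E_mem 0))) (Submodule.smul_mem _ _ (op_E_mem 1)))
    (Submodule.smul_mem _ _ (op_F_mem 0))) (Submodule.smul_mem _ _ (op_F_mem 1))

theorem isAltSq_gen {M : Matrix (Fin 2 → Fin 2) (Fin 2 → Fin 2) F} {q : Fin 2} {N : Matrix (Fin 2) (Fin 2) F}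
    (hN : Simple N) (hsq : N * N = 0) (hM : M = op q N) : IsAltSq M := by
  subst hM
  refine ⟨?_, fun x => ?_, fun x y => ?_⟩
  · rw [op, pure_mul, pure, form_transpose]
    simp only [Equiv.Perm.one_symm, Equiv.Perm.one_apply]
    refine congrArg (fun B => form B 1) (funext fun i => ?_)
    exact (Simple.update (fun _ => Or.inl rfl) q hN i).symm
  · rw [op, pure_mul, pure_apply]
    obtain ⟨i, hi⟩ : ∃ i : Fin 2, i ≠ q := exists_ne q
    exact Finset.prod_eq_zero (Finset.mem_univ i) (by rw [Function.update_of_ne hi, mul_one]; exact Jq_diag _)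
  · rw [op_mul_op, hsq]
    rw [show op q (0 : Matrix (Fin 2) (Fin 2) F) = 0 from pure_eq_zero _ q (Function.update_self _ _ _)]
    rfl

theorem isAltSq_conj {ρ : Type} [Fintype ρ] [DecidableEq ρ] (A : GL (ρ → Fin 2) F) (l : F)
    (hA : (A : Matrix (ρ → Fin 2) (ρ → Fin 2) F)ᵀ * pure (fun _ => Jq) * (A : Matrix _ _ F) =
      l • pure (fun _ => Jq))
    {M : Matrix (ρ → Fin 2) (ρ → Fin 2) F} (hM : IsAltSq M) (hsc : ∃ s : F, M * M = s • 1) :
    IsAltSq ((A : Matrix _ _ F) * M * ((A⁻¹ : GL (ρ → Fin 2) F) : Matrix _ _ F)) := by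
  obtain ⟨hs, hd, -⟩ := hM
  obtain ⟨s, hs2⟩ := hsc
  set J : Matrix (ρ → Fin 2) (ρ → Fin 2) F := pure (fun _ => Jq) with hJ
  set C : Matrix (ρ → Fin 2) (ρ → Fin 2) F := ((A⁻¹ : GL (ρ → Fin 2) F) : Matrix (ρ → Fin 2) (ρ → Fin 2) F) with hC
  have hAC : (A : Matrix _ _ F) * C = 1 := Units.mul_inv A
  have hCA : C * (A : Matrix _ _ F) = 1 := Units.inv_mul A
  have hJA : J * (A : Matrix _ _ F) = l • (Cᵀ * J) := by
    have := congrArg (fun Z => Cᵀ * Z) hA
    simp only [← mul_assoc, ← Matrix.transpose_mul, hAC, Matrix.transpose_one, one_mul, Matrix.mul_smul] at this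
    exact this
  have key : J * ((A : Matrix _ _ F) * M * C) = l • (Cᵀ * (J * M) * C) := by
    rw [← mul_assoc, ← mul_assoc, hJA, Matrix.smul_mul, Matrix.smul_mul, mul_assoc Cᵀ J M]
  refine ⟨?_, fun x => ?_, fun x y => ?_⟩
  · rw [key, Matrix.transpose_smul, Matrix.transpose_mul, Matrix.transpose_mul, hs, Matrix.transpose_transpose,
      ← mul_assoc]
  · rw [key, Matrix.smul_apply]
    have : (Cᵀ * (J * M) * C) x x = dotProduct (fun y => C y x) ((J * M) *ᵥ fun y => C y x) := by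
      rw [mul_assoc]; rfl
    rw [this, quad_zero hs hd, smul_zero]
  · have : (A : Matrix _ _ F) * M * C * ((A : Matrix _ _ F) * M * C) = s • 1 := by
      calc _ = (A : Matrix _ _ F) * M * (C * (A : Matrix _ _ F)) * M * C := by noncomm_ring
        _ = s • 1 := by rw [hCA, mul_one, mul_assoc (A : Matrix (ρ → Fin 2) (ρ → Fin 2) F), hs2, Matrix.mul_smul, mul_one,
                Matrix.smul_mul, hAC]
    rw [this]; simp

theorem localInv_two : LocalInv (Fin 2) F := fun A l hA M hM => by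
  induction hM using Submodule.span_induction with
  | mem M hM =>
    rcases hM with hM | ⟨q, hM | hM⟩
    · rw [Set.mem_singleton_iff.1 hM, mul_one, Units.mul_inv]; exact one_mem_W
    · refine mem_W_two _ (isAltSq_conj A l hA (isAltSq_gen (Or.inr (Or.inl rfl)) Eq2_sq hM) ⟨0, ?_⟩)
      rw [zero_smul, hM, op_EE]
    · refine mem_W_two _ (isAltSq_conj A l hA (isAltSq_gen (Or.inr (Or.inr rfl)) Fq_sq hM) ⟨0, ?_⟩)
      rw [zero_smul, hM, op_mul_op, Fq_sq]
      exact pure_eq_zero _ q (Function.update_self _ _ _)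
  | zero => simp
  | add X Y _ _ h1 h2 => rw [mul_add, add_mul]; exact add_mem h1 h2
  | smul a X _ h1 => rw [Matrix.mul_smul, Matrix.smul_mul]; exact Submodule.smul_mem _ a h1

end Cfsg.Agent.SpinWreath
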