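import Mathlib

/-!
Calculus of pure tensors of square matrices and of factor permutations, on the index set of functions
`μ → κ`.
-/

set_option autoImplicit false
set_option linter.unusedSectionVars false

namespace Cfsg.Agent.SpinWreath

open Matrix

variable {μ ρ κ : Type} [Fintype μ] [DecidableEq μ] [Fintype κ] [DecidableEq κ] [Fintype ρ] [DecidableEq ρ]
  {F : Type*} [CommRing F]

/-- a pure tensor composed with a permutation of the factors -/
def form (A : μ → Matrix κ κ F) (π : Equiv.Perm μ) : Matrix (μ → κ) (μ → κ) F :=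
  Matrix.of fun x y => ∏ i, A i (x i) (y (π i))

/-- a pure tensor -/
def pure (A : μ → Matrix κ κ F) : Matrix (μ → κ) (μ → κ) F := form A 1

/-- a matrix acting on a single factor -/
def op (i : μ) (M : Matrix κ κ F) : Matrix (μ → κ) (μ → κ) F := pure (Function.update (fun _ => 1) i M)

theorem form_apply (A : μ → Matrix κ κ F) (π : Equiv.Perm μ) (x y : μ → κ) :
    form A π x y = ∏ i, A i (x i) (y (π i)) := rfl

theorem pure_apply (A : μ → Matrix κ κ F) (x y : μ → κ) : pure A x y = ∏ i, A i (x i) (y i) := rfl

theorem form_mul (A B : μ → Matrix κ κ F) (π τ : Equiv.Perm μ) :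
    form A π * form B τ = form (fun i => A i * B (π i)) (τ * π) := by
  ext x y
  rw [Matrix.mul_apply, form_apply]
  have e1 : ∀ z : μ → κ, form A π x z * form B τ z y =
      ∏ i, A i (x i) (z (π i)) * B (π i) (z (π i)) (y (τ (π i))) := fun z => by
    rw [form_apply, form_apply, Finset.prod_mul_distrib,
      Equiv.prod_comp π (fun j => B j (z j) (y (τ j)))]
  rw [Finset.sum_congr rfl fun z _ => e1 z]
  simp_rw [Matrix.mul_apply, Equiv.Perm.mul_apply]
  rw [Fintype.prod_sum]
  refine Fintype.sum_equiv (Equiv.arrowCongr π.symm (Equiv.refl κ)) _ _ fun z => ?_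
  simp [Equiv.arrowCongr]

theorem form_one : form (fun _ : μ => (1 : Matrix κ κ F)) 1 = 1 := by
  ext x y
  rw [form_apply]
  rcases eq_or_ne x y with rfl | h
  · rw [Matrix.one_apply_eq]
    exact Finset.prod_eq_one fun i _ => Matrix.one_apply_eq _
  · obtain ⟨i, hi⟩ := Function.ne_iff.1 h
    rw [Matrix.one_apply_ne h]
    exact Finset.prod_eq_zero (Finset.mem_univ i) (Matrix.one_apply_ne hi)

theorem form_transpose (A : μ → Matrix κ κ F) (π : Equiv.Perm μ) :
    (form A π)ᵀ = form (fun j => (A (π.symm j))ᵀ) π.symm := by
  ext x y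
  rw [Matrix.transpose_apply, form_apply, form_apply]
  refine Fintype.prod_equiv π _ _ fun i => ?_
  simp

theorem pure_mul (A B : μ → Matrix κ κ F) : pure A * pure B = pure fun i => A i * B i := by
  simp [pure, form_mul]

theorem pure_eq_zero (A : μ → Matrix κ κ F) (i : μ) (h : A i = 0) : pure A = 0 := by
  ext x y
  rw [pure_apply]
  exact Finset.prod_eq_zero (Finset.mem_univ i) (by simp [h])

theorem pure_update_add (A : μ → Matrix κ κ F) (i : μ) (X Y : Matrix κ κ F) :
    pure (Function.update A i (X + Y)) = pure (Function.update A i X) + pure (Function.update A i Y) := by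
  ext x y
  rw [Matrix.add_apply, pure_apply, pure_apply, pure_apply]
  rw [← Finset.mul_prod_erase _ _ (Finset.mem_univ i), ← Finset.mul_prod_erase _ _ (Finset.mem_univ i),
    ← Finset.mul_prod_erase _ _ (Finset.mem_univ i)]
  have h : ∀ Z : Matrix κ κ F, (∏ j ∈ Finset.univ.erase i, Function.update A i Z j (x j) (y j)) =
      ∏ j ∈ Finset.univ.erase i, A j (x j) (y j) := fun Z =>
    Finset.prod_congr rfl fun j hj => by rw [Function.update_of_ne (Finset.ne_of_mem_erase hj)]
  rw [h, h, h, Function.update_self, Function.update_self, Function.update_self, Matrix.add_apply, add_mul]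

theorem pure_update_smul (A : μ → Matrix κ κ F) (i : μ) (c : F) (X : Matrix κ κ F) :
    pure (Function.update A i (c • X)) = c • pure (Function.update A i X) := by
  ext x y
  rw [Matrix.smul_apply, pure_apply, pure_apply, smul_eq_mul]
  rw [← Finset.mul_prod_erase _ _ (Finset.mem_univ i), ← Finset.mul_prod_erase _ _ (Finset.mem_univ i)]
  have h : ∀ Z : Matrix κ κ F, (∏ j ∈ Finset.univ.erase i, Function.update A i Z j (x j) (y j)) =
      ∏ j ∈ Finset.univ.erase i, A j (x j) (y j) := fun Z =>
    Finset.prod_congr rfl fun j hj => by rw [Function.update_of_ne (Finset.ne_of_mem_erase hj)]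
  rw [h, h, Function.update_self, Function.update_self, Matrix.smul_apply, smul_eq_mul, mul_assoc]

theorem op_one (i : μ) : op i (1 : Matrix κ κ F) = 1 := by
  rw [op, pure, ← form_one]
  congr 1
  funext j
  rcases eq_or_ne j i with rfl | h
  · simp
  · simp [Function.update_of_ne h]

theorem op_add (i : μ) (X Y : Matrix κ κ F) : op i (X + Y) = op i X + op i Y := pure_update_add _ i X Y

theorem op_smul (i : μ) (c : F) (X : Matrix κ κ F) : op i (c • X) = c • op i X := pure_update_smul _ i c X

theorem op_mul_op (i : μ) (X Y : Matrix κ κ F) : op i X * op i Y = op i (X * Y) := by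
  rw [op, op, op, pure_mul]
  congr 1
  funext j
  rcases eq_or_ne j i with rfl | h
  · simp
  · simp [Function.update_of_ne h]

/-- entries of a one-factor operator vanish on indices differing in two factors -/
theorem op_apply_eq_zero (i : μ) (M : Matrix κ κ F) {x y : μ → κ} {b c : μ} (hbc : b ≠ c) (hb : x b ≠ y b)
    (hc : x c ≠ y c) : op i M x y = 0 := by
  rw [op, pure_apply]
  obtain ⟨j, hj, hxy⟩ : ∃ j, j ≠ i ∧ x j ≠ y j := by
    rcases eq_or_ne b i with rfl | h
    · exact ⟨c, hbc.symm, hc⟩
    · exact ⟨b, h, hb⟩
  exact Finset.prod_eq_zero (Finset.mem_univ j) (by simp [Function.update_of_ne hj, Matrix.one_apply_ne hxy])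

theorem form_mul_op (A : μ → Matrix κ κ F) (π : Equiv.Perm μ) (i : μ) (M : Matrix κ κ F) :
    form A π * op (π i) M = form (Function.update A i (A i * M)) π := by
  rw [op, pure, form_mul, one_mul]
  congr 1
  funext j
  rcases eq_or_ne j i with rfl | h
  · simp
  · simp [Function.update_of_ne h, Function.update_of_ne (π.injective.ne h)]

theorem op_mul_form (A : μ → Matrix κ κ F) (π : Equiv.Perm μ) (i : μ) (N : Matrix κ κ F) :
    op i N * form A π = form (Function.update A i (N * A i)) π := by
  rw [op, pure, form_mul, mul_one]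
  congr 1
  funext j
  rcases eq_or_ne j i with rfl | h
  · simp
  · simp [Function.update_of_ne h]

/-- permuting factors respects swapping of one coordinate between two rows -/
theorem form_swap_rows (A : μ → Matrix κ κ F) (π : Equiv.Perm μ) (p q y : μ → κ) (i : μ) :
    form A π p y * form A π q y =
      form A π (Function.update p i (q i)) y * form A π (Function.update q i (p i)) y := by
  simp only [form_apply, ← Finset.prod_mul_distrib]
  refine Finset.prod_congr rfl fun j _ => ?_
  rcases eq_or_ne j i with rfl | h
  · simp [mul_comm]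
  · simp [Function.update_of_ne h]

/-- grouping the factors of a pure tensor in blocks -/
theorem pure_curry (A : μ × ρ → Matrix κ κ F) :
    Matrix.reindex (Equiv.curry μ ρ κ) (Equiv.curry μ ρ κ) (pure A) =
      pure fun i => pure fun r => A (i, r) := by
  ext x y
  simp only [Matrix.reindex_apply, Matrix.submatrix_apply, pure_apply, Fintype.prod_prod_type]
  rfl

theorem op_curry (q : μ × ρ) (N : Matrix κ κ F) :
    Matrix.reindex (Equiv.curry μ ρ κ) (Equiv.curry μ ρ κ) (op q N) = op q.1 (op q.2 N) := by
  rw [op, pure_curry, op]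
  congr 1
  funext i
  rcases eq_or_ne i q.1 with rfl | h
  · rw [Function.update_self, op]
    congr 1
    funext r
    rcases eq_or_ne r q.2 with rfl | hr
    · simp
    · simp [Function.update_of_ne hr, Function.update_of_ne (show (q.1, r) ≠ q from fun e => hr (congrArg Prod.snd e))]
  · rw [Function.update_of_ne h, ← form_one, pure]
    congr 1
    funext r
    simp [Function.update_of_ne (show (i, r) ≠ q from fun e => h (congrArg Prod.fst e))]

end Cfsg.Agent.SpinWreath
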