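import Cfsg.Agent.SpinWreath.Pure
import Cfsg.Prelude.Def_GeometricClasses

/-!
Tensor powers of a two-dimensional symplectic space in characteristic two: the space spanned by the
identity and the local nilpotent operators, isometries of the form `1 + X`, and their commutators.
-/

set_option autoImplicit false
set_option linter.unusedSectionVars false

namespace Cfsg.Agent.SpinWreath

open Matrix
open scoped commutatorElement

variable {ν : Type} [Fintype ν] [DecidableEq ν] {F : Type*} [Field F] [CharP F 2]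

/-- the hyperbolic Gram matrix -/
def Jq : Matrix (Fin 2) (Fin 2) F := !![0, 1; 1, 0]

/-- the raising operator -/
def Eq2 : Matrix (Fin 2) (Fin 2) F := !![0, 1; 0, 0]

/-- the lowering operator -/
def Fq : Matrix (Fin 2) (Fin 2) F := !![0, 0; 1, 0]

theorem Eq2_sq : (Eq2 : Matrix (Fin 2) (Fin 2) F) * Eq2 = 0 := by simp [Eq2, Matrix.mul_fin_two, ← Matrix.ext_iff]

theorem Fq_sq : (Fq : Matrix (Fin 2) (Fin 2) F) * Fq = 0 := by simp [Fq, Matrix.mul_fin_two, ← Matrix.ext_iff]

theorem EF_add_FE : (Eq2 : Matrix (Fin 2) (Fin 2) F) * Fq + Fq * Eq2 = 1 := by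
  simp [Eq2, Fq, Matrix.one_fin_two, Matrix.mul_fin_two]

theorem Jq_diag (s : Fin 2) : (Jq : Matrix (Fin 2) (Fin 2) F) s s = 0 := by fin_cases s <;> simp [Jq]

/-- the one-factor matrices occurring in the overgroup -/
def Simple (M : Matrix (Fin 2) (Fin 2) F) : Prop := M = 1 ∨ M = Eq2 ∨ M = Fq

theorem Simple.symm {M : Matrix (Fin 2) (Fin 2) F} (h : Simple M) : (Jq * M)ᵀ = Jq * M := by
  rcases h with rfl | rfl | rfl <;> ext i j <;> fin_cases i <;> fin_cases j <;>
    simp [Jq, Eq2, Fq]

theorem Simple.update {A : ν → Matrix (Fin 2) (Fin 2) F} (hA : ∀ i, Simple (A i)) (a : ν)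
    {M : Matrix (Fin 2) (Fin 2) F} (hM : Simple M) : ∀ i, Simple (Function.update A a M i) := fun i => by
  rcases eq_or_ne i a with rfl | h
  · simpa using hM
  · simpa [Function.update_of_ne h] using hA i

/-- a symmetric matrix with zero diagonal has vanishing quadratic form -/
theorem quad_zero {κ : Type} [Fintype κ] {M : Matrix κ κ F} (hs : Mᵀ = M) (hd : ∀ i, M i i = 0) (v : κ → F) :
    dotProduct v (M *ᵥ v) = 0 := by
  classical
  simp only [dotProduct, Matrix.mulVec, Finset.mul_sum]
  rw [← Fintype.sum_prod_type']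
  refine Finset.sum_involution (fun a _ => a.swap) (fun a _ => ?_) (fun a _ ha e => ha ?_)
    (fun a _ => Finset.mem_univ _) (fun a _ => Prod.swap_swap a)
  · have h : M a.2 a.1 = M a.1 a.2 := congrFun (congrFun hs a.1) a.2
    have h2 : ∀ z : F, z + z = 0 := CharTwo.add_self_eq_zero
    rw [Prod.fst_swap, Prod.snd_swap, h]
    rw [show v a.2 * (M a.1 a.2 * v a.1) = v a.1 * (M a.1 a.2 * v a.2) by ring]
    exact h2 _
  · have : a.1 = a.2 := (congrArg Prod.fst e).symm
    rw [this, hd]; ring

/-- `Q` is, up to a scalar in its polar form, the tensor power of the hyperbolic symplectic plane, vanishing on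
the basis vectors -/
structure QHyp (Q : ((ν → Fin 2) → F) → F) (c : F) : Prop where
  smul : ∀ (a : F) v, Q (a • v) = a ^ 2 * Q v
  polar_eq : ∀ u v, QuadraticMap.polar Q u v = c * dotProduct u (pure (fun _ => Jq) *ᵥ v)
  basis : ∀ z, Q (Pi.single z 1) = 0

variable {Q : ((ν → Fin 2) → F) → F} {c : F}

theorem QHyp.add (h : QHyp Q c) (u v : (ν → Fin 2) → F) :
    Q (u + v) = Q u + Q v + c * dotProduct u (pure (fun _ => Jq) *ᵥ v) := by
  rw [← h.polar_eq, QuadraticMap.polar]; ring

/-- the space where one coordinate is constant is totally singular -/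
theorem QHyp.singular (h : QHyp Q c) (i : ν) (s : Fin 2) (w : (ν → Fin 2) → F)
    (hw : ∀ z, z i ≠ s → w z = 0) : Q w = 0 := by
  suffices ∀ (T : Finset (ν → Fin 2)) (w : (ν → Fin 2) → F), (∀ z, z ∉ T → w z = 0) →
      (∀ z, z i ≠ s → w z = 0) → Q w = 0 from this Finset.univ w (fun z hz => absurd (Finset.mem_univ z) hz) hw
  intro T
  induction T using Finset.induction_on with
  | empty =>
    intro w hT _
    have : w = (0 : F) • w := by rw [zero_smul]; exact funext fun z => hT z (Finset.notMem_empty z)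
    rw [this, h.smul]; ring
  | @insert a T ha ih =>
    intro w hT hS
    rw [show w = w a • Pi.single a 1 + Function.update w a 0 by
      funext z
      rcases eq_or_ne z a with rfl | hz <;> simp [*]]
    have hS' : ∀ z, z i ≠ s → Function.update w a 0 z = 0 := fun z hz => by
      rcases eq_or_ne z a with rfl | hza <;> simp [*]
    rw [h.add, h.smul, h.basis, ih (Function.update w a 0) (fun z hz => ?_) hS']
    · rcases eq_or_ne (a i) s with hai | hai
      · have hzero : dotProduct (w a • (Pi.single a 1 : (ν → Fin 2) → F))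
            (pure (fun _ => Jq) *ᵥ Function.update w a 0) = 0 := by
          rw [smul_dotProduct, single_dotProduct, one_mul]
          refine mul_eq_zero_of_right _ (Finset.sum_eq_zero fun z _ => ?_)
          rcases eq_or_ne (z i) s with hzi | hzi
          · refine mul_eq_zero_of_left ?_ _
            exact (pure_apply _ a z).trans
              (Finset.prod_eq_zero (Finset.mem_univ i) (by rw [hai, hzi]; exact Jq_diag s))
          · rw [hS' z hzi, mul_zero]
        rw [hzero]; ring
      · rw [hS a hai, zero_smul, zero_dotProduct]; ring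
    · rcases eq_or_ne z a with rfl | hza
      · simp
      · rw [Function.update_of_ne hza]; exact hT z (by simp [hza, hz])

theorem pure_sq_zero {A : ν → Matrix (Fin 2) (Fin 2) F} (h : ∃ i, A i = Eq2 ∨ A i = Fq) :
    pure A * pure A = 0 := by
  obtain ⟨i, hi⟩ := h
  rw [pure_mul]
  refine pure_eq_zero _ i ?_
  show A i * A i = 0
  rcases hi with hi | hi <;> rw [hi]
  · exact Eq2_sq
  · exact Fq_sq

/-- the involution `1 + X` -/
def involUnit (X : Matrix (ν → Fin 2) (ν → Fin 2) F) (h : X * X = 0) : GL (ν → Fin 2) F :=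
  have e : (1 + X) * (1 + X) = 1 := by
    rw [add_mul, one_mul, mul_add, mul_one, h, add_zero, add_assoc, CharTwo.add_self_eq_zero, add_zero]
  ⟨1 + X, 1 + X, e, e⟩

theorem QHyp.isometry (h : QHyp Q c) {A : ν → Matrix (Fin 2) (Fin 2) F} (hA : ∀ i, Simple (A i))
    (h1 : ∃ i, A i = 1) (hE : ∃ i, A i = Eq2 ∨ A i = Fq) :
    involUnit (pure A) (pure_sq_zero hE) ∈ Cfsg.isometryGroup F Q := by
  intro u _
  show Q ((1 + pure A) *ᵥ u) = Q u
  rw [Matrix.add_mulVec, Matrix.one_mulVec, h.add]
  have h1' : dotProduct u (pure (fun _ => Jq) *ᵥ (pure A *ᵥ u)) = 0 := by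
    rw [Matrix.mulVec_mulVec, pure_mul]
    refine quad_zero ?_ (fun z => ?_) u
    · rw [pure, form_transpose]
      simp only [Equiv.Perm.one_symm, Equiv.Perm.one_apply]
      exact congrArg (fun B => form B 1) (funext fun i => (hA i).symm)
    · obtain ⟨i, hi⟩ := h1
      rw [pure_apply]
      exact Finset.prod_eq_zero (Finset.mem_univ i) (by rw [hi, mul_one]; exact Jq_diag _)
  obtain ⟨i, hi⟩ := hE
  classical
  have h2 : Q (pure A *ᵥ u) = 0 := by
    refine h.singular i (if A i = Eq2 then 0 else 1) _ fun z hz => ?_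
    refine Finset.sum_eq_zero fun y _ => mul_eq_zero_of_left ?_ _
    refine (pure_apply A z y).trans (Finset.prod_eq_zero (Finset.mem_univ i) ?_)
    revert hz
    rcases hi with hi | hi
    · rw [hi, if_pos rfl]
      generalize z i = a; generalize y i = b
      fin_cases a <;> fin_cases b <;> simp [Eq2]
    · have hne : (Fq : Matrix (Fin 2) (Fin 2) F) ≠ Eq2 := fun e => by
        have := congrFun (congrFun e 1) 0; simp [Fq, Eq2] at this
      rw [hi, if_neg hne]
      generalize z i = a; generalize y i = b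
      fin_cases a <;> fin_cases b <;> simp [Fq]
  rw [h1', h2]; ring

theorem omegaGL_eq {ι : Type} [Fintype ι] [DecidableEq ι] (Q : (ι → F) → F) :
    Cfsg.Geo.omegaGL Q = ⁅Cfsg.isometryGroup F Q, Cfsg.isometryGroup F Q⁆ := by
  rw [Cfsg.Geo.omegaGL, Cfsg.Omega, commutator_def, Subgroup.map_commutator, ← MonoidHom.range_eq_map,
    Subgroup.range_subtype]

theorem add_involutions_sq {R : Type*} [Ring R] (h2 : ∀ z : R, z + z = 0) (a b : R) (ha : a * a = 0)
    (hb : b * b = 0) (haba : a * b * a = 0) (hbab : b * a * b = 0) :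
    (1 + a) * (1 + b) * (1 + a) * (1 + b) = 1 + (a * b + b * a) := by
  have e1 : (a + b + a * b) * (a + b + a * b) = a * b + b * a := by
    have : (a + b + a * b) * (a + b + a * b) = a * a + a * b + a * a * b + (b * a + b * b + b * a * b) +
      (a * b * a + a * (b * b) + a * b * a * b) := by noncomm_ring
    rw [this, ha, hb, hbab, haba]; simp
  calc (1 + a) * (1 + b) * (1 + a) * (1 + b)
      = 1 + ((a + b + a * b) + (a + b + a * b)) + (a + b + a * b) * (a + b + a * b) := by noncomm_ring
    _ = 1 + (a * b + b * a) := by rw [h2, e1, add_zero]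

/-- commutators of two such involutions -/
theorem QHyp.comm_mem (h : QHyp Q c) {A B C : ν → Matrix (Fin 2) (Fin 2) F} (d : ν)
    (hA : ∀ i, Simple (A i)) (hA1 : ∃ i, A i = 1) (hAE : ∃ i, A i = Eq2 ∨ A i = Fq)
    (hB : ∀ i, Simple (B i)) (hB1 : ∃ i, B i = 1) (hBE : ∃ i, B i = Eq2 ∨ B i = Fq)
    (hC : ∀ i, i ≠ d → A i * B i = C i ∧ B i * A i = C i) (hd : A d * B d + B d * A d = C d)
    (haba : ∃ i, A i * B i * A i = 0) (hbab : ∃ i, B i * A i * B i = 0) :
    ∃ g ∈ Cfsg.Geo.omegaGL Q, (g : Matrix (ν → Fin 2) (ν → Fin 2) F) = 1 + pure C := by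
  refine ⟨⁅involUnit _ (pure_sq_zero hAE), involUnit _ (pure_sq_zero hBE)⁆, ?_, ?_⟩
  · rw [omegaGL_eq]
    exact Subgroup.commutator_mem_commutator (h.isometry hA hA1 hAE) (h.isometry hB hB1 hBE)
  · show (1 + pure A) * (1 + pure B) * (1 + pure A) * (1 + pure B) = 1 + pure C
    obtain ⟨i, hi⟩ := haba
    obtain ⟨j, hj⟩ := hbab
    have h2 : ∀ z : Matrix (ν → Fin 2) (ν → Fin 2) F, z + z = 0 := fun z => by
      ext x y; exact CharTwo.add_self_eq_zero _
    rw [add_involutions_sq h2 _ _ (pure_sq_zero hAE) (pure_sq_zero hBE)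
      (by rw [pure_mul, pure_mul]; exact pure_eq_zero _ i hi)
      (by rw [pure_mul, pure_mul]; exact pure_eq_zero _ j hj)]
    congr 1
    have e1 : (fun i => A i * B i) = Function.update C d (A d * B d) := funext fun i => by
      rcases eq_or_ne i d with rfl | h <;> simp [*]
    have e2 : (fun i => B i * A i) = Function.update C d (B d * A d) := funext fun i => by
      rcases eq_or_ne i d with rfl | h <;> simp [*]
    rw [pure_mul, pure_mul, e1, e2, ← pure_update_add, hd, Function.update_eq_self]

/-- the span of the identity and of the local nilpotent operators -/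
def W (ν : Type) [Fintype ν] [DecidableEq ν] (F : Type*) [Field F] :
    Submodule F (Matrix (ν → Fin 2) (ν → Fin 2) F) :=
  Submodule.span F ({1} ∪ {X | ∃ q : ν, X = op q Eq2 ∨ X = op q Fq})

theorem op_E_mem (q : ν) : op q (Eq2 : Matrix (Fin 2) (Fin 2) F) ∈ W ν F :=
  Submodule.subset_span (Or.inr ⟨q, Or.inl rfl⟩)

theorem op_F_mem (q : ν) : op q (Fq : Matrix (Fin 2) (Fin 2) F) ∈ W ν F :=
  Submodule.subset_span (Or.inr ⟨q, Or.inr rfl⟩)

theorem one_mem_W : (1 : Matrix (ν → Fin 2) (ν → Fin 2) F) ∈ W ν F :=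
  Submodule.subset_span (Or.inl rfl)

/-- entries of elements of `W` vanish far from the diagonal -/
theorem W_apply_eq_zero {X : Matrix (ν → Fin 2) (ν → Fin 2) F} (hX : X ∈ W ν F) {x y : ν → Fin 2} {b d : ν}
    (hbd : b ≠ d) (hb : x b ≠ y b) (hd : x d ≠ y d) : X x y = 0 := by
  induction hX using Submodule.span_induction with
  | mem X hX =>
    rcases hX with hX | ⟨q, hX | hX⟩
    · rw [Set.mem_singleton_iff.1 hX, Matrix.one_apply_ne fun e => hb (congrFun e b)]
    · rw [hX]; exact op_apply_eq_zero q _ hbd hb hd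
    · rw [hX]; exact op_apply_eq_zero q _ hbd hb hd
  | zero => rfl
  | add X Y _ _ h1 h2 => rw [Matrix.add_apply, h1, h2, add_zero]
  | smul a X _ h1 => rw [Matrix.smul_apply, h1, smul_zero]

theorem op_comm {i j : ν} (h : i ≠ j) (X Y : Matrix (Fin 2) (Fin 2) F) :
    Commute (op i X) (op j Y) := by
  show op i X * op j Y = op j Y * op i X
  rw [op, op, pure_mul, pure_mul]
  congr 1
  funext k
  rcases eq_or_ne k i with rfl | hk
  · simp [Function.update_of_ne h]
  · simp [Function.update_of_ne hk]

theorem op_op_pure {a b : ν} (h : a ≠ b) (X Y : Matrix (Fin 2) (Fin 2) F) :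
    op a X * op b Y = pure (Function.update (Function.update (fun _ => 1) a X) b Y) := by
  rw [op, op, pure_mul]
  congr 1
  funext k
  rcases eq_or_ne k b with rfl | hk
  · simp [Function.update_of_ne h.symm]
  · simp [Function.update_of_ne hk]

/-- conjugating a lowering operator -/
theorem conj_F {R : Type*} [Ring R] (a f Y : R) (hY : Commute a Y) (hfY : Commute f Y)
    (haf : a * f + f * a = 1) (hYY : Y * Y = 0) : (1 + a * Y) * f * (1 + a * Y) = f + Y := by
  have e2 : a * Y * f = a * f * Y := by rw [mul_assoc, ← hfY.eq, ← mul_assoc]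
  have e3 : a * Y * f * (a * Y) = a * f * a * (Y * Y) := by
    rw [e2, show a * f * Y * (a * Y) = a * f * (Y * a) * Y by noncomm_ring, ← hY.eq]
    noncomm_ring
  calc (1 + a * Y) * f * (1 + a * Y) = f + (a * Y * f + f * (a * Y)) + a * Y * f * (a * Y) := by noncomm_ring
    _ = f + (a * f + f * a) * Y := by rw [e3, e2, hYY]; noncomm_ring
    _ = f + Y := by rw [haf, one_mul]

/-- conjugating an operator that commutes -/
theorem conj_comm {R : Type*} [Ring R] (h2 : ∀ z : R, z + z = 0) (X M : R) (h : Commute X M) (hXX : X * X = 0) :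
    (1 + X) * M * (1 + X) = M := by
  calc (1 + X) * M * (1 + X) = M + (X * M + M * X) + X * (M * X) := by noncomm_ring
    _ = M := by rw [← h.eq, h2, ← mul_assoc, hXX]; simp

theorem matrix_two (z : Matrix (ν → Fin 2) (ν → Fin 2) F) : z + z = 0 := by
  ext x y; exact CharTwo.add_self_eq_zero _

theorem op_EF (q : ν) : op q (Eq2 : Matrix (Fin 2) (Fin 2) F) * op q Fq + op q Fq * op q Eq2 = 1 := by
  rw [op_mul_op, op_mul_op, ← op_add, EF_add_FE, op_one]

theorem op_EE (q : ν) : op q (Eq2 : Matrix (Fin 2) (Fin 2) F) * op q Eq2 = 0 := by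
  rw [op_mul_op, Eq2_sq]; exact pure_eq_zero _ q (Function.update_self _ _ _)

/-- `1 + e_a e_b` normalises `W` -/
theorem conj_W {a b : ν} (hab : a ≠ b) {M : Matrix (ν → Fin 2) (ν → Fin 2) F} (hM : M ∈ W ν F) :
    (1 + op a Eq2 * op b Eq2) * M * (1 + op a Eq2 * op b Eq2) ∈ W ν F := by
  have hXX : (op a (Eq2 : Matrix (Fin 2) (Fin 2) F) * op b Eq2) * (op a Eq2 * op b Eq2) = 0 := by
    rw [mul_assoc, ← mul_assoc (op b Eq2), (op_comm hab.symm _ _).eq, mul_assoc (op a Eq2), op_EE, mul_zero, mul_zero]
  induction hM using Submodule.span_induction with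
  | mem M hM =>
    rcases hM with hM | ⟨q, hM | hM⟩
    · rw [Set.mem_singleton_iff.1 hM, conj_comm matrix_two _ _ (Commute.one_right _) hXX]
      exact one_mem_W
    · subst hM
      have hc : ∀ i, Commute (op i (Eq2 : Matrix (Fin 2) (Fin 2) F)) (op q Eq2) := fun i => by
        rcases eq_or_ne i q with rfl | h
        · exact Commute.refl _
        · exact op_comm h _ _
      rw [conj_comm matrix_two _ _ ((hc a).mul_left (hc b)) hXX]
      exact op_E_mem q
    · subst hM
      rcases eq_or_ne q a with rfl | hqa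
      · rw [conj_F (op q Eq2) (op q Fq) (op b Eq2) (op_comm hab _ _) (op_comm hab _ _) (op_EF q) (op_EE b)]
        exact add_mem (op_F_mem q) (op_E_mem b)
      rcases eq_or_ne q b with rfl | hqb
      · rw [(op_comm hab _ _).eq, conj_F (op q Eq2) (op q Fq) (op a Eq2) (op_comm hab.symm _ _) (op_comm hab.symm _ _)
          (op_EF q) (op_EE a)]
        exact add_mem (op_F_mem q) (op_E_mem a)
      · rw [conj_comm matrix_two _ _ ((show Commute (op a Eq2) (op q Fq) from op_comm hqa.symm _ _).mul_left
          (op_comm hqb.symm _ _)) hXX]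
        exact op_F_mem q
  | zero => simp
  | add X Y _ _ h1 h2 => rw [mul_add (1 + _), add_mul]; exact add_mem h1 h2
  | smul s X _ h1 => rw [Matrix.mul_smul, Matrix.smul_mul]; exact Submodule.smul_mem _ s h1

/-- elements of `Ω` inside and outside the normaliser of `W` -/
theorem QHyp.exists_elements (h : QHyp Q c) {a b e d : ν} (hab : a ≠ b) (hae : a ≠ e) (had : a ≠ d)
    (hbe : b ≠ e) (hbd : b ≠ d) (hed : e ≠ d) :
    (∃ g ∈ Cfsg.Geo.omegaGL Q, g⁻¹ = g ∧
      (g : Matrix (ν → Fin 2) (ν → Fin 2) F) = 1 + op a Eq2 * op e Eq2) ∧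
    ∃ g ∈ Cfsg.Geo.omegaGL Q, (g : Matrix _ _ F) * op a Fq * ((g⁻¹ : GL (ν → Fin 2) F) : Matrix _ _ F) ∉ W ν F := by
  let one : ν → Matrix (Fin 2) (Fin 2) F := fun _ => 1
  have h1 : ∀ i, Simple (one i) := fun i => Or.inl rfl
  have hE : Simple (Eq2 : Matrix (Fin 2) (Fin 2) F) := Or.inr (Or.inl rfl)
  have hF : Simple (Fq : Matrix (Fin 2) (Fin 2) F) := Or.inr (Or.inr rfl)
  let B : ν → Matrix (Fin 2) (Fin 2) F := Function.update (Function.update one d Fq) e Eq2
  have hB : ∀ i, Simple (B i) := Simple.update (Simple.update h1 d hF) e hE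
  have hBa : B a = 1 := by simp [B, one, Function.update_of_ne hae, Function.update_of_ne had]
  have hBb : B b = 1 := by simp [B, one, Function.update_of_ne hbe, Function.update_of_ne hbd]
  have hBd : B d = Fq := by simp [B, Function.update_of_ne hed.symm]
  have hBe : B e = Eq2 := by simp [B]
  have hBo : ∀ i, i ≠ d → i ≠ e → B i = 1 := fun i h1 h2 => by simp [B, one, Function.update_of_ne h1, Function.update_of_ne h2]
  have hinv : ∀ (g : GL (ν → Fin 2) F) (X : Matrix (ν → Fin 2) (ν → Fin 2) F), X * X = 0 →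
      (g : Matrix _ _ F) = 1 + X → g⁻¹ = g := fun g X hX hg => by
    apply inv_eq_of_mul_eq_one_right
    apply Units.ext
    rw [Units.val_mul, Units.val_one, hg]
    calc (1 + X) * (1 + X) = 1 + (X + X) + X * X := by noncomm_ring
      _ = 1 := by rw [matrix_two, hX]; simp
  constructor
  · let A : ν → Matrix (Fin 2) (Fin 2) F := Function.update (Function.update one a Eq2) d Eq2
    obtain ⟨g, hg, hg'⟩ := h.comm_mem (A := A) (B := B) (C := Function.update (Function.update one a Eq2) e Eq2) d
      (Simple.update (Simple.update h1 a hE) d hE)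
      ⟨b, by simp [A, one, Function.update_of_ne hab.symm, Function.update_of_ne hbd]⟩
      ⟨d, Or.inl (by simp [A])⟩ hB ⟨b, hBb⟩ ⟨e, Or.inl hBe⟩
      (fun i hi => by
        rcases eq_or_ne i e with rfl | hie
        · simp [A, one, hBe, Function.update_of_ne hed, Function.update_of_ne hae.symm]
        · simp [A, hBo i hi hie, Function.update_of_ne hi, Function.update_of_ne hie])
      (by simp [A, one, hBd, EF_add_FE, Function.update_of_ne hed.symm, Function.update_of_ne had.symm])
      ⟨a, by simp [A, hBa, Function.update_of_ne had, Eq2_sq]⟩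
      ⟨e, by simp [A, one, hBe, Eq2_sq, Function.update_of_ne hed, Function.update_of_ne hae.symm]⟩
    rw [← op_op_pure hae] at hg'
    refine ⟨g, hg, hinv g _ ?_ hg', hg'⟩
    rw [op_op_pure hae]
    exact pure_sq_zero ⟨e, Or.inl (Function.update_self _ _ _)⟩
  · let A : ν → Matrix (Fin 2) (Fin 2) F := Function.update (Function.update (Function.update one a Eq2) b Eq2) d Eq2
    let C : ν → Matrix (Fin 2) (Fin 2) F := Function.update (Function.update (Function.update one a Eq2) b Eq2) e Eq2
    obtain ⟨g, hg, hg'⟩ := h.comm_mem (A := A) (B := B) (C := C) d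
      (Simple.update (Simple.update (Simple.update h1 a hE) b hE) d hE)
      ⟨e, by simp [A, one, Function.update_of_ne hed, Function.update_of_ne hbe.symm, Function.update_of_ne hae.symm]⟩
      ⟨d, Or.inl (by simp [A])⟩ hB ⟨a, hBa⟩ ⟨e, Or.inl hBe⟩
      (fun i hi => by
        rcases eq_or_ne i e with rfl | hie
        · simp [A, C, one, hBe, Function.update_of_ne hed, Function.update_of_ne hbe.symm,
            Function.update_of_ne hae.symm]
        · simp [A, C, hBo i hi hie, Function.update_of_ne hi, Function.update_of_ne hie])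
      (by simp [A, C, one, hBd, EF_add_FE, Function.update_of_ne hed.symm, Function.update_of_ne hbd.symm,
        Function.update_of_ne had.symm])
      ⟨a, by simp [A, hBa, Function.update_of_ne had, Function.update_of_ne hab, Eq2_sq]⟩
      ⟨e, by simp [A, one, hBe, Eq2_sq, Function.update_of_ne hed, Function.update_of_ne hbe.symm,
        Function.update_of_ne hae.symm]⟩
    refine ⟨g, hg, fun hmem => ?_⟩
    have hC : pure C = op a Eq2 * (op b Eq2 * op e Eq2) := by
      rw [op_op_pure hbe, op, pure_mul]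
      congr 1
      funext i
      rcases eq_or_ne i a with rfl | hia
      · simp [C, Function.update_of_ne hae, Function.update_of_ne hab]
      rcases eq_or_ne i b with rfl | hib
      · simp [C, one, Function.update_of_ne hbe, Function.update_of_ne hia]
      rcases eq_or_ne i e with rfl | hie
      · simp [C, one, Function.update_of_ne hia]
      · simp [C, one, Function.update_of_ne hia, Function.update_of_ne hib, Function.update_of_ne hie]
    have hYY : (op b (Eq2 : Matrix (Fin 2) (Fin 2) F) * op e Eq2) * (op b Eq2 * op e Eq2) = 0 := by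
      rw [op_op_pure hbe]; exact pure_sq_zero ⟨e, Or.inl (Function.update_self _ _ _)⟩
    rw [hinv g _ (pure_sq_zero ⟨e, Or.inl (by simp [C])⟩) hg', hg', hC,
      conj_F _ _ _ ((show Commute (op a Eq2) (op b Eq2) from op_comm hab _ _).mul_right (op_comm hae _ _))
        ((show Commute (op a Fq) (op b Eq2) from op_comm hab _ _).mul_right (op_comm hae _ _)) (op_EF a) hYY] at hmem
    let y : ν → Fin 2 := fun _ => 1
    let x : ν → Fin 2 := Function.update (Function.update y b 0) e 0
    have hxb : x b = 0 := by simp [x, Function.update_of_ne hbe]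
    have hxe : x e = 0 := by simp [x]
    have h0 := W_apply_eq_zero hmem (x := x) (y := y) hbe (by rw [hxb]; decide) (by rw [hxe]; decide)
    rw [Matrix.add_apply, op_apply_eq_zero a _ hbe (by rw [hxb]; decide) (by rw [hxe]; decide),
      op_op_pure hbe, zero_add, pure_apply] at h0
    refine one_ne_zero (α := F) (Eq.trans (Finset.prod_eq_one fun i _ => ?_).symm h0)
    rcases eq_or_ne i e with rfl | hie
    · simp [x, y, Eq2]
    rcases eq_or_ne i b with rfl | hib
    · simp [x, y, Eq2, Function.update_of_ne hie]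
    · simp [x, y, Function.update_of_ne hie, Function.update_of_ne hib]

end Cfsg.Agent.SpinWreath
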